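/-
Fusion maps, and dihedral or semidihedral groups in normal form.
-/
import Cfsg.Agent.SC2.E
import Cfsg.Agent.Loc.Xfer
import Cfsg.Agent.Invol.DihSylow
import Cfsg.Agent.Invol.Closure
set_option autoImplicit false
set_option linter.unusedSectionVars false

namespace CF.DD
open Subgroup Cfsg CF.BG CF.Sig CF.GW CF.Ab2
open CF.Invol (MX Mc zh zq)
open scoped commutatorElement

variable {G : Type*} [Group G] [Finite G]
variable {A B C K M N P Q S T V X Y Z : Subgroup G} {g r s t u v w x y z α β : G} {φ ψ : G ≃* G}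

/-- inner automorphisms -/
def In (φ : G ≃* G) : Prop := ∃ g, ∀ x, φ x = g * x * g⁻¹

theorem in_conj (g : G) : In (MulAut.conj g) := ⟨g, fun _ => rfl⟩
theorem In.conj (h : In φ) (x : G) : IsConj x (φ x) := by
  obtain ⟨g, h⟩ := h
  exact isConj_iff.2 ⟨g, (h x).symm⟩

theorem extN (hS : Syl 2 S ⊤) (l : S ≤ X) (k : P2 P) (m : cj g P ≤ X) :
    ∃ c ∈ X, ∀ p ∈ P, MulAut.conj (c * g) p ∈ S := by
  obtain ⟨c, hc, e⟩ := (hS.of_le l le_top).syl_cj_le m (k.cj g)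
  rw [cj_cj] at e
  exact ⟨c, hc, fun p hp => e (conj_mem_cj.2 hp)⟩

theorem ext (hS : Syl 2 S ⊤) (l : S ≤ 𝐂₁ x) (c : IsConj y x) (k : P2 P) (m : P ≤ 𝐂₁ y) :
    ∃ φ, In φ ∧ φ y = x ∧ ∀ p ∈ P, φ p ∈ S := by
  obtain ⟨g, rfl⟩ := isConj_iff.1 c
  obtain ⟨c, hc, e⟩ := extN (g := g) hS l k (by rw [← cj_cent1]; exact cj_mono g m)
  refine ⟨_, in_conj _, ?_, e⟩
  rw [MulAut.conj_apply, show c * g * y * (c * g)⁻¹ = c * (g * y * g⁻¹) * c⁻¹ by group, mem_cent1.1 hc,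
    mul_inv_cancel_right]

theorem extZ (hS : Syl 2 S ⊤) (l : S ≤ 𝐍 (zpowers x)) (c : IsConj y x) (k : P2 P) (m : P ≤ 𝐍 (zpowers y)) :
    ∃ φ, In φ ∧ φ y ∈ zpowers x ∧ ∀ p ∈ P, φ p ∈ S := by
  obtain ⟨g, rfl⟩ := isConj_iff.1 c
  obtain ⟨c, hc, e⟩ := extN (g := g) hS l k (by rw [← cj_zpowers]; exact cj_norm_iff.2 m)
  refine ⟨_, in_conj _, ?_, e⟩
  rw [MulAut.conj_apply, show c * g * y * (c * g)⁻¹ = c * (g * y * g⁻¹) * c⁻¹ by group]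
  exact conj_mem_of_norm hc (mem_zpowers _)

theorem amal (hS : Syl 2 S ⊤) (c : IsConj x y) (k : P2 P) (k' : P2 Q) (m : P ≤ 𝐂₁ x) (m' : Q ≤ 𝐂₁ y) :
    ∃ φ ψ, In φ ∧ In ψ ∧ φ x = ψ y ∧ (∀ p ∈ P, φ p ∈ S) ∧ ∀ q ∈ Q, ψ q ∈ S := by
  obtain ⟨g, rfl⟩ := isConj_iff.1 c
  obtain ⟨R, hR, l⟩ := BG.exists_syl_le m' k'
  obtain ⟨c, hc, e⟩ := hR.syl_cj_le (K := cj g P) (by rw [← cj_cent1]; exact cj_mono g m) (k.cj g)
  obtain ⟨h, -, f⟩ := hS.syl_cj_le le_top hR.pi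
  refine ⟨_, _, in_conj (h * c * g), in_conj h, ?_, fun p hp => f ?_, fun q hq => f (conj_mem_cj.2 (l hq))⟩
  · rw [MulAut.conj_apply, MulAut.conj_apply, show h * c * g * x * (h * c * g)⁻¹ =
      h * (c * (g * x * g⁻¹) * c⁻¹) * h⁻¹ by group, mem_cent1.1 hc, mul_inv_cancel_right]
  · rw [MulAut.conj_apply, show h * c * g * p * (h * c * g)⁻¹ = h * (c * (g * p * g⁻¹) * c⁻¹) * h⁻¹ by group]
    exact conj_mem_cj.2 (e (conj_mem_cj.2 (conj_mem_cj.2 hp)))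

/-- the odd part of an element normalizing `S` -/
theorem odd_part (hS : Syl 2 S ⊤) (hg : g ∈ 𝐍 S) : ∃ s ∈ S, ∃ n ∈ 𝐍 S, n ∈ zpowers g ∧ Eo n ∧ s * n = g := by
  obtain ⟨s, n, hs, hn, e, o, rfl⟩ := exists_piPart {2} g
  exact ⟨s, (hS.of_le (le_norm_self S) le_top).mem_normal le_rfl (zpowers_le.2 hg hs) e, n,
    zpowers_le.2 hg hn, hn, o, rfl⟩

theorem In.norm (h : ∀ x, φ x = g * x * g⁻¹) (e : ∀ s ∈ S, φ s ∈ S) : g ∈ 𝐍 S :=
  mem_norm_of_cj_le fun y hy => by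
    obtain ⟨x, hx, rfl⟩ := mem_cj_iff.1 hy
    exact h x ▸ e x hx

theorem swap (hS : Syl 2 S ⊤) (h : In φ) (e : ∀ s ∈ S, φ s ∈ S) (l : S ≤ 𝐂₁ x) (f : φ (φ x) = x) : φ x = x := by
  obtain ⟨g, h⟩ := h
  have n := In.norm h e
  have : g ∈ 𝐂₁ x := by
    obtain ⟨y, z, hy, hz, e, o, rfl⟩ := exists_piPart {2} g
    have y1 := l ((hS.of_le (le_norm_self S) le_top).mem_normal le_rfl (zpowers_le.2 n hy) e)
    refine mul_mem y1 (sq_mem_of_odd o ?_)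
    have : y * z * (y * z) ∈ 𝐂₁ x := by
      rw [h, h] at f
      rw [mem_cent1, ← mul_inv_eq_iff_eq_mul]
      refine Eq.trans ?_ f
      simp only [mul_inv_rev, mul_assoc]
    rwa [mul_assoc, mul_mem_cancel_left y1, ← mul_assoc, (abel_zpowers _).mul_comm hz hy, mul_assoc,
      mul_mem_cancel_left y1] at this
  rw [h, mem_cent1.1 this, mul_inv_cancel_right]

theorem xfer (hS : Syl 2 S ⊤) (h2 : ∀ H : Subgroup G, H.index ≠ 2) (i : M.relIndex S = 2) (ix : Iv x)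
    (m : x ∈ S) (n : x ∉ M) (k : P2 T) (xT : x ∈ T) (c : T ≤ 𝐂₁ x) :
    ∃ φ, In φ ∧ φ x ∈ M ∧ ∀ t ∈ T, φ t ∈ S := by
  have hm : ∀ a ∈ S, ∀ b ∈ S, (a * b ∈ M ↔ (a ∈ M ↔ b ∈ M)) := fun a ha b hb =>
    mul_mem_iff_of_index_two (H := M.subgroupOf S) i (a := ⟨a, ha⟩) (b := ⟨b, hb⟩)
  by_contra hn
  refine n (CF.Loc.extremal_transfer_ab (S := S) (T := T) (by simpa using hS.not_dvd Nat.prime_two)
    (commutator_le.2 fun a ha b hb => ?_) ix.sq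
    (CF.Invol.mem_commutator_of_no_index_two h2 ⟨1, ix⟩) m k.isPGroup xT c fun g hg => ?_)
  · rw [commutatorElement_def, hm _ (mul_mem (mul_mem ha hb) (inv_mem ha)) _ (inv_mem hb),
      hm _ (mul_mem ha hb) _ (inv_mem ha), hm _ ha _ hb, inv_mem_iff, inv_mem_iff]
    tauto
  · have f : ∀ t ∈ T, MulAut.conj g⁻¹ t ∈ S := fun t ht => hg (mem_map_of_mem _ ht)
    have e : g⁻¹ * x * g = MulAut.conj g⁻¹ x := by simp
    rw [e, hm _ (inv_mem m) _ (f x xT), inv_mem_iff]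
    exact iff_of_false n fun h => hn ⟨_, in_conj _, h, f⟩

/-- dihedral and semidihedral groups of order at least eight -/
structure MM (A : Subgroup G) (n : ℕ) (k : ZMod (2 ^ n)) (a b : ZMod (2 ^ n) → G) : Prop
    extends MX A n k 0 a b where
  two : 2 ≤ n

namespace MM
variable {n : ℕ} {k : ZMod (2 ^ n)} {a b : ZMod (2 ^ n) → G} (h : MM A n k a b) {i j l : ZMod (2 ^ n)}
include h

theorem iz : Iv (a (zh n)) := h.toMX.orderOf_zh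
theorem zm : a (zh n) ∈ A := h.a_mem _
theorem zc (hx : x ∈ A) : x * a (zh n) = a (zh n) * x := h.toMX.commute_zh hx
theorem cases (hx : x ∈ A) : (∃ i, x = a i) ∨ ∃ i, x = b i := (h.mem x).1 hx

theorem of_sq (e : a i * a i = 1) : a i = 1 ∨ a i = a (zh n) := by
  rw [h.aa, h.toMc.a_eq_one, ← two_mul, CF.Invol.zm_two_mul_eq_zero h.one_le] at e
  exact e.imp (fun e => h.toMc.a_eq_one.2 e) (congrArg a)

theorem bsq (i : ZMod (2 ^ n)) : b i * b i = 1 ∨ b i * b i = a (zh n) := by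
  rw [h.bb]
  exact (h.toMX.sq_cases i).imp (fun e => h.toMc.a_eq_one.2 e) (congrArg a)

theorem sq (hx : x ∈ A) (e : x * x * (x * x) = 1) : x * x = 1 ∨ x * x = a (zh n) := by
  rcases h.cases hx with ⟨i, rfl⟩ | ⟨i, rfl⟩
  · rw [h.aa] at e ⊢
    exact h.of_sq e
  · exact h.bsq i

theorem com (hx : x ∈ A) (hy : y ∈ A) (e : ⁅x, y⁆ * ⁅x, y⁆ = 1) : ⁅x, y⁆ = 1 ∨ ⁅x, y⁆ = a (zh n) := by
  obtain ⟨m, f⟩ := h.toMc.mem_zpowers_a.1 (h.toMX.commutator_eq ▸ commutator_mem_commutator hx hy)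
  rw [f] at e ⊢
  exact h.of_sq e

theorem cw (i : ZMod (2 ^ n)) : ⁅a (zq n), b i⁆ = a (zh n) := by
  rw [commutatorElement_def, h.toMc.a_inv, mul_assoc, mul_assoc, ← mul_assoc (b i), h.toMc.conj_ba, h.aa,
    mul_neg, h.toMX.k_mul_zq h.two, neg_neg, ← two_mul, CF.Invol.two_mul_zq h.two]

theorem cw' (ht : t ∈ A) : ⁅a (zq n), t⁆ = 1 ∨ ⁅a (zq n), t⁆ = a (zh n) := by
  rcases h.cases ht with ⟨i, rfl⟩ | ⟨i, rfl⟩
  · exact Or.inl (commutatorElement_eq_one_iff_commute.2 (h.toMc.commute_aa _ _))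
  · exact Or.inr (h.cw i)

theorem cen (hx : x ∈ A) (hu : u ∈ A) (hv : v ∈ A) (cu : Commute u x) (cv : Commute v x)
    (ne : ⁅u, v⁆ ≠ 1) : x = 1 ∨ x = a (zh n) := by
  rw [Ne, commutatorElement_eq_one_iff_commute] at ne
  have c : ∀ {i : ZMod (2 ^ n)} {y}, y ∈ A → (i = 0 ∨ i = zh n) → Commute y (a i) := by
    rintro i y hy (rfl | rfl)
    exacts [h.toMc.a_zero ▸ Commute.one_right y, h.zc hy]
  rcases h.cases hx with ⟨i, rfl⟩ | ⟨i, rfl⟩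
  · have : ∀ j, Commute (b j) (a i) → a i = 1 ∨ a i = a (zh n) := fun j e =>
      (h.toMX.commute_ab'.1 e.symm).imp (fun e => h.toMc.a_eq_one.2 e) (congrArg a)
    rcases h.cases hu with ⟨j, rfl⟩ | ⟨j, rfl⟩
    · rcases h.cases hv with ⟨l, rfl⟩ | ⟨l, rfl⟩
      exacts [absurd (h.toMc.commute_aa _ _) ne, this _ cv]
    · exact this _ cu
  refine absurd ?_ ne
  rcases h.cases hu with ⟨j, rfl⟩ | ⟨j, rfl⟩
  · exact (c hv (h.toMX.commute_ab'.1 cu)).symm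
  rcases h.cases hv with ⟨l, rfl⟩ | ⟨l, rfl⟩
  · exact c hu (h.toMX.commute_ab'.1 cv)
  have z := CF.Invol.two_mul_zh h.one_le
  rw [h.toMX.commute_bb'] at cu cv ⊢
  rcases cu with rfl | rfl <;> rcases cv with rfl | rfl
  exacts [Or.inl rfl, Or.inr (by linear_combination -z), Or.inr rfl, Or.inl rfl]

theorem bz (i : ZMod (2 ^ n)) : ∃ t ∈ A, t * b i * t⁻¹ = b i * a (zh n) :=
  ⟨a (zq n), h.a_mem _, by
    rw [h.toMc.conj_ab, h.ba, h.toMX.k_mul_zh, sub_mul, one_mul, h.toMX.k_mul_zq h.two, sub_neg_eq_add,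
      ← two_mul, CF.Invol.two_mul_zq h.two]⟩

theorem sq_z (e : a i * a i = a (zh n)) : i = zq n ∨ i = -zq n := by
  rwa [h.aa, h.toMc.a_eq, ← two_mul, CF.Invol.zm_two_mul_eq_zh h.two] at e

theorem b_iv (e : i = zq n ∨ i = -zq n) : Iv (b i) := by
  refine h.toMX.orderOf_b_eq_two.2 ?_
  rcases e with rfl | rfl <;> simp [h.toMX.k_mul_zq h.two]

theorem b0 : Iv (b 0) := h.toMX.orderOf_b_eq_two.2 (by simp)

theorem a_eq (i : ZMod (2 ^ n)) : a i = b i * b 0 := by simp [h.bb]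

theorem conj_w (e : i = zq n ∨ i = -zq n) : IsConj (a i) (a (zq n)) := by
  rcases e with rfl | rfl
  exacts [IsConj.refl _, h.toMX.isConj_neg_zq h.two]

/-- `A` normalizes `⟨a j β⟩` -/
theorem norm_tw (c : A ≤ 𝐂₁ β) (e : β * β = 1) (j : ZMod (2 ^ n)) : A ≤ 𝐍 (zpowers (a j * β)) := by
  have cm : ∀ x ∈ A, Commute x β := fun x hx => mem_cent1.1 (c hx)
  refine h.toMc.le_iff.2 ⟨cent_le_norm _ ?_, mem_norm_of_cj_le (g := b 0) ?_⟩
  · rw [cent_zpowers, mem_cent1]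
    exact (h.toMc.commute_aa _ _).mul_right (cm _ (h.a_mem _))
  obtain ⟨u, -, hu, -⟩ := h.unit
  rw [cj_zpowers, zpowers_le]
  refine ⟨((2 * (-u).val + 1 : ℕ) : ℤ), ?_⟩
  have := NeZero.of_pos (Nat.two_pow_pos n)
  dsimp only
  rw [zpow_natCast, (cm _ (h.a_mem _)).mul_pow, h.toMc.a_pow, pow_succ β, pow_mul, pow_two, e, one_pow, one_mul,
    ← mul_assoc, mul_assoc _ β, ← (cm _ (inv_mem (h.b_mem 0))).eq, ← mul_assoc, h.toMc.conj_ba]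
  congr 3
  push_cast
  rw [ZMod.natCast_zmod_val]
  linear_combination hu

end MM
end CF.DD
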